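import Cfsg.Agent.Lib.Helper4.Orb.McLx.Cfg

set_option autoImplicit false
set_option linter.style.haveILetI false
set_option linter.unusedVariables false
set_option linter.unusedSectionVars false

/-! Start vector of an orbit (generated data). -/

namespace Cfsg.Agent.Helper4.CO.McLx

open Cfsg Cfsg.Agent.Helper4.CO

/-- start vector -/
def startV : List ℤ := [2, -2, 0, 0, 0, 0, 0, 0, 0, 0, 0, 0, 0, -2, 0, 2, 0, 2, 2, 2, 0, 0, 0, 2]

theorem startV_in : InLP startV := by decide +kernel

end Cfsg.Agent.Helper4.CO.McLx
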