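import Cfsg.Agent.Lib.Helper4.CoOrbitCount
import Cfsg.Agent.Lib.Helper4.Orb.McLx.Cfg

set_option autoImplicit false
set_option linter.style.haveILetI false
set_option linter.unusedVariables false
set_option linter.unusedSectionVars false
set_option Elab.async false

/-! A count of vectors with prescribed inner products (kernel computation). -/

namespace Cfsg.Agent.Helper4.CO.McLx

open Cfsg Cfsg.Agent.Helper4.CO

set_option maxRecDepth 1000000 in
theorem countU_p : part1 anc0 anc1 anc2 (16, 0, 0) = 0 := by decide +kernel

set_option maxRecDepth 1000000 in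
theorem countU_b0 : partB anc0 anc1 anc2 (16, 0, 0) 0 = 130 := by decide +kernel

set_option maxRecDepth 1000000 in
theorem countU_b1 : partB anc0 anc1 anc2 (16, 0, 0) 1 = 80 := by decide +kernel

set_option maxRecDepth 1000000 in
theorem countU_b2 : partB anc0 anc1 anc2 (16, 0, 0) 2 = 80 := by decide +kernel

set_option maxRecDepth 1000000 in
theorem countU_b3 : partB anc0 anc1 anc2 (16, 0, 0) 3 = 40 := by decide +kernel

set_option maxRecDepth 1000000 in
theorem countU_b4 : partB anc0 anc1 anc2 (16, 0, 0) 4 = 0 := by decide +kernel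

set_option maxRecDepth 1000000 in
theorem countU_b5 : partB anc0 anc1 anc2 (16, 0, 0) 5 = 0 := by decide +kernel

set_option maxRecDepth 1000000 in
theorem countU_b6 : partB anc0 anc1 anc2 (16, 0, 0) 6 = 0 := by decide +kernel

set_option maxRecDepth 1000000 in
theorem countU_b7 : partB anc0 anc1 anc2 (16, 0, 0) 7 = 0 := by decide +kernel

set_option maxRecDepth 1000000 in
theorem countU_b8 : partB anc0 anc1 anc2 (16, 0, 0) 8 = 0 := by decide +kernel

set_option maxRecDepth 1000000 in
theorem countU_b9 : partB anc0 anc1 anc2 (16, 0, 0) 9 = 0 := by decide +kernel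

set_option maxRecDepth 1000000 in
theorem countU_b10 : partB anc0 anc1 anc2 (16, 0, 0) 10 = 0 := by decide +kernel

set_option maxRecDepth 1000000 in
theorem countU_b11 : partB anc0 anc1 anc2 (16, 0, 0) 11 = 0 := by decide +kernel

set_option maxRecDepth 1000000 in
theorem countU_b12 : partB anc0 anc1 anc2 (16, 0, 0) 12 = 0 := by decide +kernel

set_option maxRecDepth 1000000 in
theorem countU_b13 : partB anc0 anc1 anc2 (16, 0, 0) 13 = 0 := by decide +kernel

set_option maxRecDepth 1000000 in
theorem countU_b14 : partB anc0 anc1 anc2 (16, 0, 0) 14 = 0 := by decide +kernel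

set_option maxRecDepth 1000000 in
theorem countU_b15 : partB anc0 anc1 anc2 (16, 0, 0) 15 = 0 := by decide +kernel

theorem countU : fast32 anc0 anc1 anc2 (16, 0, 0) = 330 := by
  rw [fast32_parts, countU_p, countU_b0, countU_b1, countU_b2, countU_b3, countU_b4, countU_b5, countU_b6, countU_b7, countU_b8, countU_b9, countU_b10, countU_b11, countU_b12, countU_b13, countU_b14, countU_b15]

end Cfsg.Agent.Helper4.CO.McLx
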