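import Cfsg.Agent.Lib.Helper4.CoOrbitCount
import Cfsg.Agent.Lib.Helper4.Orb.McLx.Cfg

set_option autoImplicit false
set_option linter.style.haveILetI false
set_option linter.unusedVariables false
set_option linter.unusedSectionVars false
set_option Elab.async false

/-! A count of vectors with prescribed inner products (kernel computation). -/

namespace Cfsg.Agent.Helper4.CO.McLx

open Cfsg Cfsg.Agent.Helper4.CO

set_option maxRecDepth 1000000 in
theorem countV_p : part1 anc0 anc1 anc2 (16, 0, 16) = 0 := by decide +kernel

set_option maxRecDepth 1000000 in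
theorem countV_b0 : partB anc0 anc1 anc2 (16, 0, 16) 0 = 0 := by decide +kernel

set_option maxRecDepth 1000000 in
theorem countV_b1 : partB anc0 anc1 anc2 (16, 0, 16) 1 = 0 := by decide +kernel

set_option maxRecDepth 1000000 in
theorem countV_b2 : partB anc0 anc1 anc2 (16, 0, 16) 2 = 0 := by decide +kernel

set_option maxRecDepth 1000000 in
theorem countV_b3 : partB anc0 anc1 anc2 (16, 0, 16) 3 = 0 := by decide +kernel

set_option maxRecDepth 1000000 in
theorem countV_b4 : partB anc0 anc1 anc2 (16, 0, 16) 4 = 0 := by decide +kernel

set_option maxRecDepth 1000000 in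
theorem countV_b5 : partB anc0 anc1 anc2 (16, 0, 16) 5 = 0 := by decide +kernel

set_option maxRecDepth 1000000 in
theorem countV_b6 : partB anc0 anc1 anc2 (16, 0, 16) 6 = 0 := by decide +kernel

set_option maxRecDepth 1000000 in
theorem countV_b7 : partB anc0 anc1 anc2 (16, 0, 16) 7 = 0 := by decide +kernel

set_option maxRecDepth 1000000 in
theorem countV_b8 : partB anc0 anc1 anc2 (16, 0, 16) 8 = 0 := by decide +kernel

set_option maxRecDepth 1000000 in
theorem countV_b9 : partB anc0 anc1 anc2 (16, 0, 16) 9 = 0 := by decide +kernel

set_option maxRecDepth 1000000 in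
theorem countV_b10 : partB anc0 anc1 anc2 (16, 0, 16) 10 = 0 := by decide +kernel

set_option maxRecDepth 1000000 in
theorem countV_b11 : partB anc0 anc1 anc2 (16, 0, 16) 11 = 0 := by decide +kernel

set_option maxRecDepth 1000000 in
theorem countV_b12 : partB anc0 anc1 anc2 (16, 0, 16) 12 = 240 := by decide +kernel

set_option maxRecDepth 1000000 in
theorem countV_b13 : partB anc0 anc1 anc2 (16, 0, 16) 13 = 96 := by decide +kernel

set_option maxRecDepth 1000000 in
theorem countV_b14 : partB anc0 anc1 anc2 (16, 0, 16) 14 = 96 := by decide +kernel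

set_option maxRecDepth 1000000 in
theorem countV_b15 : partB anc0 anc1 anc2 (16, 0, 16) 15 = 30 := by decide +kernel

theorem countV : fast32 anc0 anc1 anc2 (16, 0, 16) = 462 := by
  rw [fast32_parts, countV_p, countV_b0, countV_b1, countV_b2, countV_b3, countV_b4, countV_b5, countV_b6, countV_b7, countV_b8, countV_b9, countV_b10, countV_b11, countV_b12, countV_b13, countV_b14, countV_b15]

end Cfsg.Agent.Helper4.CO.McLx
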