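import Cfsg.Agent.Lib.Helper4.CoOrbitCount
import Cfsg.Agent.Lib.Helper4.Orb.McLx.Cfg

set_option autoImplicit false
set_option linter.style.haveILetI false
set_option linter.unusedVariables false
set_option linter.unusedSectionVars false
set_option Elab.async false

/-! A count of vectors with prescribed inner products (kernel computation). -/

namespace Cfsg.Agent.Helper4.CO.McLx

open Cfsg Cfsg.Agent.Helper4.CO

set_option maxRecDepth 1000000 in
theorem countW_p : part1 anc0 anc1 anc2 (16, 0, 8) = 0 := by decide +kernel

set_option maxRecDepth 1000000 in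
theorem countW_b0 : partB anc0 anc1 anc2 (16, 0, 8) 0 = 0 := by decide +kernel

set_option maxRecDepth 1000000 in
theorem countW_b1 : partB anc0 anc1 anc2 (16, 0, 8) 1 = 0 := by decide +kernel

set_option maxRecDepth 1000000 in
theorem countW_b2 : partB anc0 anc1 anc2 (16, 0, 8) 2 = 0 := by decide +kernel

set_option maxRecDepth 1000000 in
theorem countW_b3 : partB anc0 anc1 anc2 (16, 0, 8) 3 = 0 := by decide +kernel

set_option maxRecDepth 1000000 in
theorem countW_b4 : partB anc0 anc1 anc2 (16, 0, 8) 4 = 0 := by decide +kernel

set_option maxRecDepth 1000000 in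
theorem countW_b5 : partB anc0 anc1 anc2 (16, 0, 8) 5 = 0 := by decide +kernel

set_option maxRecDepth 1000000 in
theorem countW_b6 : partB anc0 anc1 anc2 (16, 0, 8) 6 = 0 := by decide +kernel

set_option maxRecDepth 1000000 in
theorem countW_b7 : partB anc0 anc1 anc2 (16, 0, 8) 7 = 0 := by decide +kernel

set_option maxRecDepth 1000000 in
theorem countW_b8 : partB anc0 anc1 anc2 (16, 0, 8) 8 = 112 := by decide +kernel

set_option maxRecDepth 1000000 in
theorem countW_b9 : partB anc0 anc1 anc2 (16, 0, 8) 9 = 280 := by decide +kernel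

set_option maxRecDepth 1000000 in
theorem countW_b10 : partB anc0 anc1 anc2 (16, 0, 8) 10 = 280 := by decide +kernel

set_option maxRecDepth 1000000 in
theorem countW_b11 : partB anc0 anc1 anc2 (16, 0, 8) 11 = 560 := by decide +kernel

set_option maxRecDepth 1000000 in
theorem countW_b12 : partB anc0 anc1 anc2 (16, 0, 8) 12 = 0 := by decide +kernel

set_option maxRecDepth 1000000 in
theorem countW_b13 : partB anc0 anc1 anc2 (16, 0, 8) 13 = 0 := by decide +kernel

set_option maxRecDepth 1000000 in
theorem countW_b14 : partB anc0 anc1 anc2 (16, 0, 8) 14 = 0 := by decide +kernel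

set_option maxRecDepth 1000000 in
theorem countW_b15 : partB anc0 anc1 anc2 (16, 0, 8) 15 = 0 := by decide +kernel

theorem countW : fast32 anc0 anc1 anc2 (16, 0, 8) = 1232 := by
  rw [fast32_parts, countW_p, countW_b0, countW_b1, countW_b2, countW_b3, countW_b4, countW_b5, countW_b6, countW_b7, countW_b8, countW_b9, countW_b10, countW_b11, countW_b12, countW_b13, countW_b14, countW_b15]

end Cfsg.Agent.Helper4.CO.McLx
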