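import Cfsg.Agent.Lib.Helper4.CoNodup
import Cfsg.Agent.Lib.Helper4.Orb.McLx.VF0

set_option autoImplicit false
set_option linter.style.haveILetI false
set_option linter.unusedVariables false
set_option linter.unusedSectionVars false

/-! Orbit certificate assembly (generated data). -/

namespace Cfsg.Agent.Helper4.CO.McLx

open Cfsg Cfsg.Agent.Helper4.CO

/-- the full chunks -/
def tnV : List (List ℕ × ℕ) :=
  []

/-- the chunks -/
def chunksV : List (List ℕ × List ℕ) := mkChunks 2000 tnV tapeV0 462 numV0

theorem chunksV_ok : ∀ ch ∈ chunksV, chunkOK gens startV ch.1 ch.2 = true := by
  apply mem_mkChunks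
  · intro p hp
    simp [tnV] at hp
  · exact okV0

/-- positions in increasing order of the keys -/
def sigmaV : List ℕ := flatW 17 2000
  []
  462 0xe00094006e801f00218016100568007c0238018200a480564013e007800558053c008a01c7000380440011200c800af8002400180167008b803dc0074013c00a3005f4000a019a003b8043c021400180073006e8006a005600d1800e401d200e2000080148039a01c2006b0031003400081003900160014e001900cc0032c033a006f00bb805b4035600be00c2803ec026601440024802a4019e012400a700278026a00f2002f805c40062008c0093006a401aa000f003b0048c024e012a00c180424005c00a500430040802f200c100d200628017600e1004c00324038200b30032006d803100017004880544031c0160000a005fc01d600d90080804fc008c011e006c0059400d400360002001100302001600130047c00b800b500d900664012600dc00c48066c00fa01c800520041c00bc011d00d8800dc0228006b00d08061c015c0025002180600002a0150003d00400003c005d00888037800ce00b600458034800ae007e004a802dc01d8005b009f006bc01ae0163003300598030801b5007c001ec00ca00b0002780280012c008000788038c018c019c0042800b4038c00110011000e0035400df0054005b80344013900960013801580154002d00414036e012e00318004001e800f600a2801d00396018c002a0055c02f400c200668053002f8009d0089802e400d201c40030003440014017200e2804c00360006200dc0067c02ea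01a800258008402800125007f00350037e004a000e806f8006600bf00a5006b000fe002a001f0051c01de012800e180650032600a1003c804e801ea00fc00a1005ac01b600e0000d8008c035a0197001e004bc02e801380017805cc006000fa0028804800286011800da0069400d8010800b20002000580192001e80038020c00cc006d0056800da00ba0090806b802240034004b805e0007e015c0060001a00232019e00aa803e4007600f300b6004b401fa000600c6802340194004c00d3806e4009001360005803140104015e00e00073000ea013200068040c0234008a0059006f401a000c70009805f8011000ea000e003a0032c010400158021c02a40176008a8008000e6017b00b48033802b000410085803b801c8019000a9804a4004e005300e5001540316018600b5001b80290016f00c780090008e006100a68026c021c0050005e0020c02620090004e00298017a012b00618021002ac0137007800248016201a600b8003b4022c001a0057806440084013b005a005a00244014b00140028c011e009a00dd8058800b20029004c8000c0378013d0051000080236015b0073801c40170004d0020002a80366013400e480654021a008e00ae803940024003200a08034c000000ff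

set_option maxRecDepth 1000000 in
theorem certV : certOK 2000 (tnV.map fun p => p.2) 462 numV0 sigmaV = true := by
  decide +kernel

theorem chunksV_nd : (chunksV.flatMap fun ch => ch.2).Nodup :=
  nodup_mkChunks 2000 tnV tapeV0 462 numV0 sigmaV certV

theorem chunksV_len : (chunksV.flatMap fun ch => ch.2).length = 462 := by
  unfold chunksV
  rw [length_mkChunks]
  decide

end Cfsg.Agent.Helper4.CO.McLx
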