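import Cfsg.Agent.Lib.Helper4.Orb.McLx.U
import Cfsg.Agent.Lib.Helper4.Orb.McLx.CountU
import Cfsg.Agent.Lib.Helper4.Orb.McLx.V
import Cfsg.Agent.Lib.Helper4.Orb.McLx.CountV
import Cfsg.Agent.Lib.Helper4.Orb.McLx.W
import Cfsg.Agent.Lib.Helper4.Orb.McLx.CountW

set_option autoImplicit false
set_option linter.style.haveILetI false
set_option linter.unusedVariables false
set_option linter.unusedSectionVars false

/-! Transitivity of a stabiliser on sets of vectors with prescribed inner products. -/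

namespace Cfsg.Agent.Helper4.CO.McLx

open Cfsg Cfsg.Agent.Helper4.CO

theorem ncardU : (statSet 32 anc0 anc1 anc2 (16, 0, 0)).ncard = (chunksU.flatMap fun ch => ch.2).length := by
  rw [chunksU_len, ncard_statSet anc0 anc1 anc2 anc0_in.1 anc1_in.1 anc2_in.1, countU]

theorem transU : ∀ x ∈ statSet 32 anc0 anc1 anc2 (16, 0, 0), ∀ y ∈ statSet 32 anc0 anc1 anc2 (16, 0, 0),
    ∃ g : Co0, (∀ a ∈ anchors, FixL g a) ∧ g • x = y :=
  orbit_trans' anchors gens gensOK startU startU_in (by decide) _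
    (mem_statSet_mkL 32 anc0 anc1 anc2 (16, 0, 0) anc0_in.1 anc1_in.1 anc2_in.1 startU startU_in
      (by decide) (by decide))
    (statSet_inv 32 anc0 anc1 anc2 (16, 0, 0) anc0_in anc1_in anc2_in) chunksU chunksU_ok chunksU_nd
    ncardU (Set.finite_of_ncard_ne_zero (by rw [ncardU, chunksU_len]; norm_num))

theorem ncardV : (statSet 32 anc0 anc1 anc2 (16, 0, 16)).ncard = (chunksV.flatMap fun ch => ch.2).length := by
  rw [chunksV_len, ncard_statSet anc0 anc1 anc2 anc0_in.1 anc1_in.1 anc2_in.1, countV]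

theorem transV : ∀ x ∈ statSet 32 anc0 anc1 anc2 (16, 0, 16), ∀ y ∈ statSet 32 anc0 anc1 anc2 (16, 0, 16),
    ∃ g : Co0, (∀ a ∈ anchors, FixL g a) ∧ g • x = y :=
  orbit_trans' anchors gens gensOK startV startV_in (by decide) _
    (mem_statSet_mkL 32 anc0 anc1 anc2 (16, 0, 16) anc0_in.1 anc1_in.1 anc2_in.1 startV startV_in
      (by decide) (by decide))
    (statSet_inv 32 anc0 anc1 anc2 (16, 0, 16) anc0_in anc1_in anc2_in) chunksV chunksV_ok chunksV_nd
    ncardV (Set.finite_of_ncard_ne_zero (by rw [ncardV, chunksV_len]; norm_num))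

theorem ncardW : (statSet 32 anc0 anc1 anc2 (16, 0, 8)).ncard = (chunksW.flatMap fun ch => ch.2).length := by
  rw [chunksW_len, ncard_statSet anc0 anc1 anc2 anc0_in.1 anc1_in.1 anc2_in.1, countW]

theorem transW : ∀ x ∈ statSet 32 anc0 anc1 anc2 (16, 0, 8), ∀ y ∈ statSet 32 anc0 anc1 anc2 (16, 0, 8),
    ∃ g : Co0, (∀ a ∈ anchors, FixL g a) ∧ g • x = y :=
  orbit_trans' anchors gens gensOK startW startW_in (by decide) _
    (mem_statSet_mkL 32 anc0 anc1 anc2 (16, 0, 8) anc0_in.1 anc1_in.1 anc2_in.1 startW startW_in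
      (by decide) (by decide))
    (statSet_inv 32 anc0 anc1 anc2 (16, 0, 8) anc0_in anc1_in anc2_in) chunksW chunksW_ok chunksW_nd
    ncardW (Set.finite_of_ncard_ne_zero (by rw [ncardW, chunksW_len]; norm_num))

end Cfsg.Agent.Helper4.CO.McLx
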