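import Cfsg.Agent.Lib.Helper4.CoNodup
import Cfsg.Agent.Lib.Helper4.Orb.McLx.UF0

set_option autoImplicit false
set_option linter.style.haveILetI false
set_option linter.unusedVariables false
set_option linter.unusedSectionVars false

/-! Orbit certificate assembly (generated data). -/

namespace Cfsg.Agent.Helper4.CO.McLx

open Cfsg Cfsg.Agent.Helper4.CO

/-- the full chunks -/
def tnU : List (List ℕ × ℕ) :=
  []

/-- the chunks -/
def chunksU : List (List ℕ × List ℕ) := mkChunks 2000 tnU tapeU0 330 numU0

theorem chunksU_ok : ∀ ch ∈ chunksU, chunkOK gens startU ch.1 ch.2 = true := by
  apply mem_mkChunks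
  · intro p hp
    simp [tnU] at hp
  · exact okU0

/-- positions in increasing order of the keys -/
def sigmaU : List ℕ := flatW 17 2000
  []
  330 0x1f800bf0079801ec028e008b002580414012200a20054803ac00a0005b0054005240082010f005600368006600a4000b80400028a0076009a004f0005c00e90024002240192007e0000003f801aa0133006e0032001f600310089800d8014c00020011003c8013000690073801c800100139008f0004c016c010a00938046801c800c400810020c00c600ab006380464006e008000408049401e00059002e800f8012c0078009b800e80242004600048021400dc007c003080234006400a700870023000ae012e005e000b4005000e8004a0042c01b000d400890017801c400520067001e80174009500320021c013a00a10061000a4025400f900090038c022c00d000360048000e200cf0025004980028010800210025c022e00ea0083801f4022a01060051804f801ca01350032802480206004000120048c012000d90028804c8028000190096004fc01cc004e000b003b0023600c300880000400cc0018006d801ac023a011c000a8050c0092012b0021804a4009801440045003f4004a001a0008003fc003a006a005b8051801c001480077803d0017c01040015003b801ac009a00160008c0176001f000d8001801c20039006500374009a0054009c0003800c0003c00a0804e8001e00f50097803dc025000110057002c400ee00af0098000fc00aa00210059003e000600075008a00218000e00f6007d0000c027a00350063002a8010800cd0060801680198010100378035c003c0124009b0009800da005f005800424017a00de0065801d001380122002c000f4011e01180006004c400d0009f000e0011c014a009e005a00220015a00d3005c8026c011c007f0013800340180004f0049801140040004400a1002e001320004003c8014c025a00ed001c00170018a003b0038000bc00e600560069000140222002b00868002c00c4011f005980028021800a0009d803c401be0082001a002d400ce00d1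

set_option maxRecDepth 1000000 in
theorem certU : certOK 2000 (tnU.map fun p => p.2) 330 numU0 sigmaU = true := by
  decide +kernel

theorem chunksU_nd : (chunksU.flatMap fun ch => ch.2).Nodup :=
  nodup_mkChunks 2000 tnU tapeU0 330 numU0 sigmaU certU

theorem chunksU_len : (chunksU.flatMap fun ch => ch.2).length = 330 := by
  unfold chunksU
  rw [length_mkChunks]
  decide

end Cfsg.Agent.Helper4.CO.McLx
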